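import Groth.Agent.Curves.K333.Diag
import Groth.Agent.Curves.K333.CurveCoh
import Groth.Agent.S12128
import Groth.Agent.S0086

/-!
# Smooth curves of genus `g` as a morphism property

`Cv g` is stable under base change, Zariski local on the base, descends along fpqc covers
(`of_points`, `of_fpqc`), and for `g ≠ 1` every curve of genus `g` has a relatively ample invertible module
(`exists_relAmple`).
-/

set_option autoImplicit false
universe u
open CategoryTheory CategoryTheory.Limits AlgebraicGeometry

namespace K99.FamProp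

open Groth.Agent K333.Fam Groth.Agent.Pi1.H536

/-- Smooth curves of genus `g`. -/
def Cv (g : ℕ) : MorphismProperty Scheme.{u} := fun _ _ f => IsCurve f g

instance (g : ℕ) : (Cv.{u} g).IsStableUnderBaseChange where
  of_isPullback h hf := IsCurve.baseChange (hf : IsCurve _ g) h

variable {X S : Scheme.{u}} {f : X ⟶ S} {g : ℕ}

theorem of_points (hp : IsProper f) (hs : Smooth f)
    (h : ∀ s : S, ∃ (X' S' : Scheme.{u}) (v : X' ⟶ X) (f' : X' ⟶ S') (w : S' ⟶ S) (s' : S'),
      IsPullback v f' f w ∧ w s' = s ∧ IsCurve f' g) : IsCurve f g := by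
  have hconn : GeometricallyConnected f := by
    refine ⟨fun K _ y Z fst snd hZ => ?_⟩
    obtain ⟨X', S', v, f', w, s', H, hs', hc⟩ := h (y (IsLocalRing.closedPoint K))
    obtain ⟨q, hq1, hq2⟩ := Scheme.Pullback.exists_preimage_pullback
      (f := y) (g := w) (IsLocalRing.closedPoint K) s' hs'.symm
    let Q : Scheme.{u} := pullback y w
    let k' := Q.residueField q
    let a : Spec k' ⟶ Spec (CommRingCat.of K) := Q.fromSpecResidueField q ≫ pullback.fst y w
    let b : Spec k' ⟶ S' := Q.fromSpecResidueField q ≫ pullback.snd y w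
    have hab : a ≫ y = b ≫ w := by
      simp only [a, b, Category.assoc, pullback.condition]
    have i0 := hc.conn
    have h1 : ConnectedSpace ↥(pullback f' b) :=
      GeometricallyConnected.connectedSpace_of_subsingleton (pullback.snd f' b)
    have hp1 : IsPullback (pullback.fst f' b ≫ v) (pullback.snd f' b) f (b ≫ w) :=
      (IsPullback.of_hasPullback f' b).paste_horiz H
    have hp2 : IsPullback (pullback.fst snd a ≫ fst) (pullback.snd snd a) f (a ≫ y) :=
      (IsPullback.of_hasPullback snd a).paste_horiz hZ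
    rw [← hab] at hp1
    let e : pullback f' b ≅ pullback snd a := hp1.isoIsPullback _ _ hp2
    have h2 : ConnectedSpace ↥(pullback snd a) :=
      e.hom.homeomorph.surjective.connectedSpace e.hom.continuous
    have h3 : Surjective a := by
      refine ⟨fun x => ⟨IsLocalRing.closedPoint _, Subsingleton.elim _ _⟩⟩
    have h4 : Surjective (pullback.fst snd a) := inferInstance
    exact h4.surj.connectedSpace (pullback.fst snd a).continuous
  have hrel : SmoothOfRelativeDimension 1 f := by
    let ι := {V : X.Opens // SmoothOfRelativeDimension 1 (V.ι ≫ f)}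
    have htop : iSup (fun V : ι => V.1) = ⊤ := by
      rw [eq_top_iff]
      intro x _
      obtain ⟨m, V, hxV, hm⟩ := CurveFam.exists_relDim f x
      obtain ⟨X', S', v, f', w, s', H, hs', hc⟩ := h (f x)
      have h₀ := (isPullback_fiber f' s').paste_horiz H
      let _ : (f'.fiber s').Over (Spec (CommRingCat.of (S'.residueField s'))) :=
        ⟨f'.fiberToSpecResidueField s'⟩
      obtain ⟨-, h5, -⟩ := hc.field (S'.residueField s') (S'.fromSpecResidueField s') (f'.fiber s')
        (f'.fiberι s') (isPullback_fiber f' s')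
      have h5' : SmoothOfRelativeDimension 1 (f'.fiberToSpecResidueField s') := h5
      obtain ⟨z, hz⟩ : ∃ z : f'.fiber s', (f'.fiberι s' ≫ v) z = x := by
        obtain ⟨z, hz1, hz2⟩ := Scheme.Pullback.exists_preimage_pullback
          (f := f) (g := S'.fromSpecResidueField s' ≫ w) x (IsLocalRing.closedPoint _) (by
            rw [Scheme.Hom.comp_apply, Scheme.fromSpecResidueField_apply, hs'])
        refine ⟨h₀.isoPullback.inv z, ?_⟩
        rw [← hz1, ← Scheme.Hom.comp_apply, IsPullback.isoPullback_inv_fst]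
      have hpb : IsPullback ((f'.fiberι s' ≫ v) ∣_ V) (((f'.fiberι s' ≫ v) ⁻¹ᵁ V).ι ≫
          f'.fiberToSpecResidueField s') (V.ι ≫ f) (S'.fromSpecResidueField s' ≫ w) :=
        (isPullback_morphismRestrict (f'.fiberι s' ≫ v) V).paste_vert h₀
      have hbc := smoothOfRelativeDimension_isStableUnderBaseChange (n := m)
      have h1 : SmoothOfRelativeDimension m (((f'.fiberι s' ≫ v) ⁻¹ᵁ V).ι ≫
          f'.fiberToSpecResidueField s') :=
        MorphismProperty.of_isPullback (P := @SmoothOfRelativeDimension m) hpb hm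
      have h2 : m = 1 := CurveFam.relDim_unique (S'.residueField s') (f'.fiberToSpecResidueField s')
        1 m ((f'.fiberι s' ≫ v) ⁻¹ᵁ V) ⟨z, by
          change (f'.fiberι s' ≫ v) z ∈ V
          rw [hz]; exact hxV⟩ h1
      subst h2
      exact TopologicalSpace.Opens.mem_iSup.2 ⟨⟨V, hm⟩, hxV⟩
    have hZ : IsZariskiLocalAtSource (@SmoothOfRelativeDimension 1) :=
      HasRingHomProperty.instIsZariskiLocalAtSource
    exact IsZariskiLocalAtSource.of_iSup_eq_top (P := @SmoothOfRelativeDimension 1)
      (fun V : ι => V.1) htop fun V => V.2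
  refine ⟨hp, hrel, hconn, fun s => ?_⟩
  obtain ⟨X', S', v, f', w, s', H, hs', hc⟩ := h s
  have i0 := hc.proper
  let _ : (f'.fiber s').Over (Spec (CommRingCat.of (S'.residueField s'))) :=
    ⟨f'.fiberToSpecResidueField s'⟩
  have h1 := GenusFam.finrank_eq_betti f' (S'.residueField s') (S'.fromSpecResidueField s')
    (IsLocalRing.closedPoint _) (f'.fiberι s') (isPullback_fiber f' s') 1
  have h2 := GenusFam.finrank_eq_betti f (S'.residueField s') (S'.fromSpecResidueField s' ≫ w)
    (IsLocalRing.closedPoint _) (f'.fiberι s' ≫ v) ((isPullback_fiber f' s').paste_horiz H) 1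
  rw [Scheme.Hom.comp_apply, show (S'.fromSpecResidueField s')
    (IsLocalRing.closedPoint (S'.residueField s')) = s' from
    S'.fromSpecResidueField_apply s' _, hs'] at h2
  rw [show (S'.fromSpecResidueField s')
    (IsLocalRing.closedPoint (S'.residueField s')) = s' from
    S'.fromSpecResidueField_apply s' _, hc.betti] at h1
  rw [← h2, h1]

/-- fpqc descent. -/
theorem of_fpqc {X' S' : Scheme.{u}} {v : X' ⟶ X} {f' : X' ⟶ S'} {w : S' ⟶ S} (H : IsPullback v f' f w)
    [Surjective w] [Flat w] [QuasiCompact w] (hc : IsCurve f' g) : IsCurve f g := by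
  have := Groth.Agent.S0086.result.{u}
  have hw : (@Surjective ⊓ @Flat ⊓ @QuasiCompact : MorphismProperty Scheme.{u}) w :=
    ⟨⟨inferInstance, inferInstance⟩, inferInstance⟩
  refine of_points (MorphismProperty.of_isPullback_of_descendsAlong H.flip hw hc.proper)
    (MorphismProperty.of_isPullback_of_descendsAlong H.flip hw hc.smooth) fun s => ?_
  obtain ⟨s', hs'⟩ := w.surjective s
  exact ⟨X', S', v, f', w, s', H, hs', hc⟩

instance (g : ℕ) : IsZariskiLocalAtTarget (Cv.{u} g) := by
  apply IsZariskiLocalAtTarget.mk'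
  · intro X Y f U hf
    exact IsCurve.baseChange (hf : IsCurve f g) (isPullback_morphismRestrict f U).flip
  · intro X Y f ι U hU hf
    have h1 : IsProper f :=
      (IsZariskiLocalAtTarget.iff_of_iSup_eq_top (P := @IsProper) U hU).2 fun i => (hf i).proper
    have h2 : Smooth f :=
      (IsZariskiLocalAtTarget.iff_of_iSup_eq_top (P := @Smooth) U hU).2 fun i => (hf i).smooth
    refine of_points h1 h2 fun s => ?_
    obtain ⟨i, hi⟩ : ∃ i, s ∈ U i := by
      have : s ∈ iSup U := by rw [hU]; trivial
      exact TopologicalSpace.Opens.mem_iSup.1 this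
    exact ⟨_, _, _, f ∣_ U i, (U i).ι, ⟨s, hi⟩, (isPullback_morphismRestrict f (U i)).flip, rfl, hf i⟩

theorem isAmple_of_deg (K : Type u) [Field K] (Y : Scheme.{u}) [Y.Over (Spec (CommRingCat.of K))]
    (hc : IsCurve (Y ↘ Spec (CommRingCat.of K)) g) (L : Y.Modules) (hL : PicF.IsInvertible L)
    (hdeg : 0 < Curv2.deg K Y L 1) : CohB1.IsAmple L := by
  have i1 := hc.proper
  have i2 := hc.smooth
  have i3 := hc.conn
  obtain ⟨-, -, -, hdim, -⟩ := hc.field K (𝟙 _) Y (𝟙 Y) (IsPullback.of_id_fst)
  have i6 : ConnectedSpace Y := GeometricallyConnected.connectedSpace_of_subsingleton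
    (Y ↘ (Spec (CommRingCat.of K)))
  have i7 : IsIntegral Y := CurveFam.isIntegral_of_smooth K (Y ↘ (Spec (CommRingCat.of K)))
  exact (Groth.Agent.S1530.result K Y hdim L hL).2 hdeg

/-- A module of positive degree on the fibres is relatively ample. -/
theorem isRelAmple_of_deg (hf : IsCurve f g) (L : X.Modules) (hL : PicF.IsInvertible L)
    (hdeg : ∀ (K : Type u) [Field K] (t : Spec (CommRingCat.of K) ⟶ S) (Y : Scheme.{u})
      [Y.Over (Spec (CommRingCat.of K))] (j : Y ⟶ X), IsPullback j (Y ↘ Spec (CommRingCat.of K)) f t →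
      0 < Curv2.deg K Y ((Scheme.Modules.pullback j).obj L) 1) : RelAmple.IsRelAmple f L := by
  have i1 := hf.proper
  have i2 := hf.smooth
  rw [Groth.Agent.S12128.result f L hL]
  intro s
  let _ : (f.fiber s).Over (Spec (CommRingCat.of (S.residueField s))) :=
    ⟨f.fiberToSpecResidueField s⟩
  have H := isPullback_fiber f s
  have hc : IsCurve ((f.fiber s) ↘ (Spec (CommRingCat.of (S.residueField s)))) g := hf.baseChange H
  exact isAmple_of_deg (S.residueField s) (f.fiber s) hc _ (Fdesc.LocGen.isInvertible_pullback _ hL)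
    (hdeg (S.residueField s) (S.fromSpecResidueField s) (f.fiber s) (f.fiberι s) H)

theorem deg_omega (hf : IsCurve f g) (K : Type u) [Field K] (t : Spec (CommRingCat.of K) ⟶ S)
    (Y : Scheme.{u}) [Y.Over (Spec (CommRingCat.of K))] (j : Y ⟶ X)
    (H : IsPullback j (Y ↘ Spec (CommRingCat.of K)) f t) :
    Curv2.deg K Y ((Scheme.Modules.pullback j).obj (Omega.sheaf f)) 1 = 2 * (g : ℤ) - 2 := by
  have i1 := hf.proper
  have i2 := hf.rel
  rw [← (K333.CurveCoh.finrank_hh_one_omega K Y (hf.baseChange H)).2]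
  exact K333.Diag.deg_congr K Y (Vancyc.H878.RelOmega.omegaBC H) 1

/-- `Ω` is relatively ample for `g ≥ 2`. -/
theorem isRelAmple_omega (hf : IsCurve f g) (hg : 2 ≤ g) : RelAmple.IsRelAmple f (Omega.sheaf f) := by
  have i1 := hf.proper
  have i2 := hf.rel
  refine isRelAmple_of_deg hf _ (K333.OmegaFam.isInvertible_omega f) fun K _ t Y _ j H => ?_
  rw [deg_omega hf K t Y j H]
  omega

theorem exists_relAmple (hf : IsCurve f g) (hg : g ≠ 1) : ∃ L : X.Modules, RelAmple.IsRelAmple f L := by
  have i1 := hf.proper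
  have i2 := hf.rel
  have i3 := hf.smooth
  have i4 := hf.conn
  have hΩ : PicF.IsInvertible (Omega.sheaf f) := K333.OmegaFam.isInvertible_omega f
  rcases Nat.lt_or_ge 1 g with h | h
  · exact ⟨_, isRelAmple_omega hf h⟩
  · obtain rfl : g = 0 := by omega
    obtain ⟨J, hJ, ⟨e⟩⟩ := K333.Diag.exists_inv _ hΩ
    refine ⟨J, isRelAmple_of_deg hf _ hJ fun K _ t Y _ j H => ?_⟩
    have h1 := deg_omega hf K t Y j H
    obtain ⟨p1, p2, p3, hdim, -⟩ := hf.field K t Y j H
    have i5 : Smooth (Y ↘ (Spec (CommRingCat.of K))) := SmoothOfRelativeDimension.smooth 1 _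
    have i6 : ConnectedSpace Y := GeometricallyConnected.connectedSpace_of_subsingleton
      (Y ↘ (Spec (CommRingCat.of K)))
    have i7 : IsIntegral Y := CurveFam.isIntegral_of_smooth K (Y ↘ (Spec (CommRingCat.of K)))
    have h2 := Dix.InterNum.deg_tensor K Y hdim (Fdesc.LocGen.isInvertible_pullback j hJ)
      (Fdesc.LocGen.isInvertible_pullback j hΩ)
    obtain ⟨e1⟩ := Dix.IdealModCartier.pullback_tensorMod j hJ hΩ
    have h3 : Curv2.deg K Y (CohB1.tensorMod ((Scheme.Modules.pullback j).obj J)
        ((Scheme.Modules.pullback j).obj (Omega.sheaf f))) 1 = 0 := by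
      rw [K333.Diag.deg_congr K Y (e1.symm ≪≫ (Scheme.Modules.pullback j).mapIso e ≪≫
        CurvesA.HHMap.pullbackUnit j) 1]
      unfold Curv2.deg
      push_cast
      ring
    rw [h3, h1] at h2
    push_cast at h2
    omega

end K99.FamProp
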