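import Groth.Agent.Curves.K99.FamProp
import Groth.Agent.Desc.K99.PolEff
import Groth.Agent.Desc.K99.PolOmega
import Groth.Agent.S9858
import Groth.Agent.S4381
import Groth.Agent.CurvSt.K898.HZeroOne
import Groth.Prelude.Def_ega3

/-!
# fpqc descent for smooth curves of genus `g ≥ 2`

`effective_affine`: the affine case, by the canonical descent datum on `Ω`;
`effective`: along an fpqc covering morphism.
-/

set_option autoImplicit false
universe u
open CategoryTheory CategoryTheory.Limits AlgebraicGeometry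

namespace K99.FpqcCurve

open Groth.Agent K333.Fam Groth.Agent.Pi1.H536 K99.FamProp

variable {X S : Scheme.{u}} {g : ℕ}

/-- The conditions `h⁰ = 1`, `h¹ = g` and dimension one on the fibres. -/
theorem isCurve_of_fiberRank (f : X ⟶ S) [Smooth f] [IsProper f]
    (hdim : ∀ s : S, topologicalKrullDim ↥(f.fiber s) = 1)
    (h0 : ∀ s : S, CohIII.fiberRank f (Coh.structureModule X) 0 s = 1)
    (h1 : ∀ s : S, CohIII.fiberRank f (Coh.structureModule X) 1 s = g) : IsCurve f g := by
  have hconn : GeometricallyConnected f := by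
    refine ⟨fun K _ y Z fst snd hZ => ?_⟩
    let _ : Z.Over (Spec (CommRingCat.of K)) := ⟨snd⟩
    have i1 : IsProper (Z ↘ Spec (CommRingCat.of K)) := MorphismProperty.of_isPullback hZ inferInstance
    have h2 := GenusFam.finrank_eq_betti f K y (IsLocalRing.closedPoint K) fst hZ 0
    exact K898.HZeroOne.connectedSpace_of_finrank K Z (h2.trans (h0 _))
  exact ⟨inferInstance, relDim_of_fibres f 1 (by exact_mod_cast hdim), hconn, fun s => h1 s⟩

theorem sigma_map (m : ℕ) (Y V : Fin m → Scheme.{u}) (q : ∀ j, Y j ⟶ V j)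
    (hq : ∀ j, Cv g (q j)) : Cv g (Limits.Sigma.map q) := by
  refine (IsZariskiLocalAtTarget.iff_of_openCover (P := Cv g) (sigmaOpenCover V)).mpr fun i ↦ ?_
  have h1 : IsPullback (Sigma.ι Y i) (q i) (Limits.Sigma.map q) (Sigma.ι V i) := by
    have h1 := FinitaryExtensive.isVanKampen_finiteCoproducts (coproductIsCoproduct V)
    have h2 := (h1 (Cofan.mk (∐ Y) (Sigma.ι Y)) (Discrete.natTrans fun i ↦ q i.as) (Limits.Sigma.map q)
      (by ext ⟨j⟩; simp) (NatTrans.Equifibered.of_discrete _)).1 ⟨coproductIsCoproduct Y⟩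
    exact h2 ⟨i⟩
  have h2 : Cv g (q i) ↔ Cv g (pullback.snd (Limits.Sigma.map q) (Sigma.ι V i)) := by
    rw [← h1.isoPullback_hom_snd, (Cv g).cancel_left_of_respectsIso]
  exact h2.1 (hq i)

/-- The affine case. -/
theorem effective_affine {S' S : Scheme.{u}} (p : S' ⟶ S) [IsAffine S'] [IsAffine S] [Flat p]
    [Surjective p] (D : Desc.SchDD p) (hg : 2 ≤ g) (hD : IsCurve D.obj.hom g) :
    ∃ U : Over S, Nonempty ((Desc.toDD p).obj U ≅ D) := by
  have i1 := hD.proper
  have i2 := hD.rel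
  have i3 := hD.smooth
  have hΩ : PicF.IsInvertible (Omega.sheaf D.obj.hom) := K333.OmegaFam.isInvertible_omega D.obj.hom
  have hA : CohB1.IsAmple (Omega.sheaf D.obj.hom) :=
    (Groth.Agent.S4381.result D.obj.hom _).1 (isRelAmple_omega hD hg)
  have hc : CompactSpace D.obj.left := QuasiCompact.compactSpace_of_compactSpace D.obj.hom
  have hs : QuasiSeparatedSpace D.obj.left := quasiSeparatedSpace_of_quasiSeparated D.obj.hom
  obtain ⟨n, W, γ, hW, hT⟩ := Groth.Agent.Flat2H.FamDict.exists_trivs hΩ IsAffineOpen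
    (fun U x hx => by
      obtain ⟨V, hV, hxV, hVU⟩ := exists_isAffineOpen_mem_and_subset hx
      exact ⟨V, hxV, hVU, hV⟩)
  obtain ⟨δ, h⟩ := K99.PolOmega.exists_frames_omega D W γ hT
  exact K99.PolEff.effective_of_ample hA hT hW h

/-- Effectivity relative to one fpqc covering morphism from the affine case. -/
theorem effective_of_affine (P : MorphismProperty Scheme.{u}) [P.IsStableUnderBaseChange]
    (h2 : ∀ (m : ℕ) (Y V : Fin m → Scheme.{u}) (q : ∀ j, Y j ⟶ V j), (∀ j, P (q j)) → P (Limits.Sigma.map q))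
    (h3 : ∀ (X S : Scheme.{u}) (p : X ⟶ S), IsAffine X → IsAffine S → Flat p → Surjective p →
      ∀ D : Desc.SchDD p, P D.obj.hom → ∃ U : Over S, Nonempty ((Desc.toDD p).obj U ≅ D))
    {S' S : Scheme.{u}} (p : S' ⟶ S) (hp : Presieve.singleton p ∈ Scheme.fpqcPrecoverage S)
    (D : Desc.SchDD p) (hD : P D.obj.hom) : ∃ U : Over S, Nonempty ((Desc.toDD p).obj U ≅ D) := by
  have h4 : Presieve.ofArrows (fun _ : PUnit.{u + 1} => S') (fun _ => p) ∈ Scheme.fpqcPrecoverage S := by
    rw [Presieve.ofArrows_pUnit]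
    exact hp
  obtain ⟨U, ⟨e⟩⟩ := Groth.Agent.S9858.result P h2 h3 (fun _ : PUnit.{u + 1} => p) h4
    ((Desc.SchDDFam.ofSchDD p).obj D) (fun _ => hD)
  exact ⟨U, ⟨(Desc.SchDDFam.toSchDD p).mapIso e⟩⟩

/-- fpqc descent for smooth curves of genus `g ≥ 2`. -/
theorem effective {S' S : Scheme.{u}} (p : S' ⟶ S)
    (hp : Presieve.singleton p ∈ Scheme.fpqcPrecoverage S) (D : Desc.SchDD p) (hg : 2 ≤ g)
    (hD : IsCurve D.obj.hom g) : ∃ U : Over S, Nonempty ((Desc.toDD p).obj U ≅ D) :=
  effective_of_affine (Cv g) sigma_map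
    (fun _ _ p _ _ _ _ D hD => effective_affine p D hg hD) p hp D hD

end K99.FpqcCurve
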