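import Groth.Agent.Curves.K99.PushRank
import Groth.Agent.Curves.K333.PushFree

/-!
# `f_* Ω^{⊗ n}` for a smooth curve of genus `g` over a scheme
-/

set_option autoImplicit false
universe u
open CategoryTheory CategoryTheory.Limits AlgebraicGeometry Opposite TensorProduct

namespace K99.OmegaPow

open Groth.Agent K333.Fam K333.Families Groth.Agent.Pi1.H536

section Field

variable (K : Type u) [Field K] (Y : Scheme.{u}) [Y.Over (Spec (CommRingCat.of K))] {g : ℕ}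

theorem fibre_pow (hc : IsCurve (Y ↘ (Spec (CommRingCat.of K))) g) (hg : 2 ≤ g) (n : ℕ) (hn : 2 ≤ n) :
    Module.finrank K (Coh.HH Y (CohB1.tensorPow (Omega.sheaf (Y ↘ (Spec (CommRingCat.of K)))) n) 0) =
        (2 * n - 1) * (g - 1) ∧
      Subsingleton (Coh.HH Y (CohB1.tensorPow (Omega.sheaf (Y ↘ (Spec (CommRingCat.of K)))) n) 1) := by
  have i1 := hc.proper
  have i2 := hc.smooth
  have i3 := hc.conn
  have i4 := hc.rel
  obtain ⟨-, -, -, hdim, hgen, h0, -⟩ := hc.field K (𝟙 _) Y (𝟙 Y) (IsPullback.of_id_fst)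
  have i6 : ConnectedSpace Y := GeometricallyConnected.connectedSpace_of_subsingleton
    (Y ↘ (Spec (CommRingCat.of K)))
  have i7 : IsIntegral Y := CurveFam.isIntegral_of_smooth K (Y ↘ (Spec (CommRingCat.of K)))
  have i8 : IsNoetherian Y := Groth.Agent.VarietyA.GlobGen.isNoetherian_of_finiteType (Y ↘ (Spec (.of K)))
  have hinv : PicF.IsInvertible (Omega.sheaf (Y ↘ (Spec (CommRingCat.of K)))) :=
    K333.OmegaFam.isInvertible_omega _
  have hdeg := S1530.deg_tensorPow K hdim hinv n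
  rw [(K333.CurveCoh.finrank_hh_one_omega K Y hc).2] at hdeg
  have h1 : Subsingleton (Coh.HH Y
      (CohB1.tensorPow (Omega.sheaf (Y ↘ (Spec (CommRingCat.of K)))) n) 1) := by
    refine K333.FibreVA.subsingleton_h1 K Y hdim h0 _ (Fdesc.LocGen.isInvertible_tensorPow hinv n) ?_
    rw [hgen, hdeg]
    have hn' : (2 : ℤ) ≤ n := by exact_mod_cast hn
    have hg' : (2 : ℤ) ≤ g := by exact_mod_cast hg
    nlinarith
  refine ⟨?_, h1⟩
  unfold Curv2.deg at hdeg
  have hg1 : Module.finrank K (Coh.HH Y (Coh.structureModule Y) 1) = g := hgen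
  rw [S1530.euler_eq K hdim, S1530.euler_eq K hdim, h0, hg1,
    Module.finrank_zero_of_subsingleton (M := Coh.HH Y
      (CohB1.tensorPow (Omega.sheaf (Y ↘ (Spec (CommRingCat.of K)))) n) 1)] at hdeg
  obtain ⟨n', rfl⟩ : ∃ n', n = n' + 1 := ⟨n - 1, by omega⟩
  obtain ⟨g', rfl⟩ : ∃ g', g = g' + 1 := ⟨g - 1, by omega⟩
  have e1 : 2 * (n' + 1) - 1 = 2 * n' + 1 := by omega
  rw [e1, Nat.add_sub_cancel]
  push_cast at hdeg
  have e2 : (Module.finrank K (Coh.HH Y
      (CohB1.tensorPow (Omega.sheaf (Y ↘ (Spec (CommRingCat.of K)))) (n' + 1)) 0) : ℤ) =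
      ((2 * n' + 1) * g' : ℕ) := by
    push_cast
    linarith
  exact_mod_cast e2

theorem fibre_one (hc : IsCurve (Y ↘ (Spec (CommRingCat.of K))) g) :
    Module.finrank K (Coh.HH Y (Omega.sheaf (Y ↘ (Spec (CommRingCat.of K)))) 0) = g := by
  have i1 := hc.proper
  have i2 := hc.smooth
  have i3 := hc.conn
  obtain ⟨-, -, -, hdim, hgen, h0, -⟩ := hc.field K (𝟙 _) Y (𝟙 Y) (IsPullback.of_id_fst)
  have i6 : ConnectedSpace Y := GeometricallyConnected.connectedSpace_of_subsingleton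
    (Y ↘ (Spec (CommRingCat.of K)))
  have i7 : IsIntegral Y := CurveFam.isIntegral_of_smooth K (Y ↘ (Spec (CommRingCat.of K)))
  rw [(S1612.result K Y ⟨i1, i2, i7, hdim⟩ h0).1, hgen]

end Field

variable {X S : Scheme.{u}} {f : X ⟶ S} {g : ℕ}

/-- `Ω^{⊗ n}` has no higher cohomology on the fibres for `n ≥ 2`. -/
theorem noH (hf : IsCurve f g) (hg : 2 ≤ g) (n : ℕ) (hn : 2 ≤ n) :
    K333.PushFree.NoH f (CohB1.tensorPow (Omega.sheaf f) n) := by
  intro K _ t Y _ j H q hq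
  have hc := hf.baseChange H
  rcases Nat.lt_or_ge 1 q with h | h
  · exact K333.OmegaFam.subsingleton_two K Y hc _ q h
  · obtain rfl : q = 1 := by omega
    obtain ⟨e⟩ := K333.OmegaFam.nonempty_bc H hf n
    have h1 := (fibre_pow K Y hc hg n hn).2
    exact (Fga.EulerIso.HHequiv K e 1).toEquiv.subsingleton

/-- `f_* Ω^{⊗ n}`, `n ≥ 2`. -/
theorem pow_main (hf : IsCurve f g) (hg : 2 ≤ g) [HasInjectiveResolutions X.Modules] (n : ℕ) (hn : 2 ≤ n) :
    FlatMod.IsFinLocFreeOfRank ((2 * n - 1) * (g - 1)) ((Coh.push f).obj (CohB1.tensorPow (Omega.sheaf f) n)) ∧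
      ∀ i : ℕ, 1 ≤ i → IsZero ((Coh.Rpush f i).obj (CohB1.tensorPow (Omega.sheaf f) n)) := by
  have i1 := hf.proper
  have i2 := hf.smooth
  have hinv := K333.OmegaFam.isInvertible_pow hf n
  have hF := Ega3B.ChiFib.isFP_of_isInvertible hinv
  have hfl := Ega3B.ChiFib.isFlatOver_of_isInvertible f hinv
  refine ⟨PushRank.main hf _ hF hfl _ (fun V hV => ?_) fun K _ t Y _ j H => ?_,
    (K333.PushFree.main _ hF hfl (noH hf hg n hn)).1⟩
  · let iO : (f ⁻¹ᵁ V).toScheme.Over (Spec (CommRingCat.of Γ(S, V))) := ⟨Ega3B.PackageAsm.strMap f hV⟩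
    have i1 : LocallyOfFinitePresentation ((f ⁻¹ᵁ V).toScheme ↘ Spec (CommRingCat.of Γ(S, V))) :=
      inferInstanceAs (LocallyOfFinitePresentation ((f ∣_ V) ≫ hV.isoSpec.hom))
    have i2 : IsProper ((f ⁻¹ᵁ V).toScheme ↘ Spec (CommRingCat.of Γ(S, V))) :=
      inferInstanceAs (IsProper ((f ∣_ V) ≫ hV.isoSpec.hom))
    have hflV : FlatMod.IsFlatOver ((f ⁻¹ᵁ V).toScheme ↘ Spec (CommRingCat.of Γ(S, V)))
        ((CohB1.tensorPow (Omega.sheaf f) n).restrict (f ⁻¹ᵁ V).ι) := by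
      refine Ega3B.FlatRestrict.isFlatOver_restrict f _ (f ⁻¹ᵁ V).ι hV.fromSpec ?_ _ hfl
      exact (isPullback_strMap f hV).w
    have h1 := K333.PushFree.subsingleton_affine (A := Γ(S, V)) (X := (f ⁻¹ᵁ V).toScheme)
      ((CohB1.tensorPow (Omega.sheaf f) n).restrict (f ⁻¹ᵁ V).ι)
      (PerfC.FPSections.isFP_restrict _ hF) hflV (K333.PushFree.noH_restrict (noH hf hg n hn) hV) 1 le_rfl
    exact Module.Projective.of_free
  · obtain ⟨e⟩ := K333.OmegaFam.nonempty_bc H hf n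
    rw [(Fga.EulerIso.HHequiv K e 0).finrank_eq]
    exact (fibre_pow K Y (hf.baseChange H) hg n hn).1

/-- `f_* Ω`. -/
theorem one_main (hf : IsCurve f g) [HasInjectiveResolutions X.Modules] :
    FlatMod.IsFinLocFreeOfRank g ((Coh.push f).obj (Omega.sheaf f)) ∧
      Nonempty ((Coh.Rpush f 1).obj (Omega.sheaf f) ≅ Coh.structureModule S) ∧
      ∀ i : ℕ, 2 ≤ i → IsZero ((Coh.Rpush f i).obj (Omega.sheaf f)) := by
  have i1 := hf.proper
  have i2 := hf.smooth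
  have i3 := hf.rel
  have hinv : PicF.IsInvertible (Omega.sheaf f) := K333.OmegaFam.isInvertible_omega f
  have hF := Ega3B.ChiFib.isFP_of_isInvertible hinv
  have hfl := Ega3B.ChiFib.isFlatOver_of_isInvertible f hinv
  refine ⟨PushRank.main hf _ hF hfl _ (fun V hV => ?_) fun K _ t Y _ j H => ?_,
    K333.OmegaMain.nonempty_R1_iso hf, fun i hi => K333.CurveCoh.isZero_Rpush hf _ hF hfl i hi⟩
  · let iO : (f ⁻¹ᵁ V).toScheme.Over (Spec (CommRingCat.of Γ(S, V))) := ⟨Ega3B.PackageAsm.strMap f hV⟩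
    have H : IsPullback (f ⁻¹ᵁ V).ι ((f ⁻¹ᵁ V).toScheme ↘ Spec (CommRingCat.of Γ(S, V))) f hV.fromSpec :=
      isPullback_strMap f hV
    have hc : IsCurve ((f ⁻¹ᵁ V).toScheme ↘ Spec (CommRingCat.of Γ(S, V))) g := hf.baseChange H
    let e1 : (Omega.sheaf f).restrict (f ⁻¹ᵁ V).ι ≅
        Omega.sheaf ((f ⁻¹ᵁ V).toScheme ↘ Spec (CommRingCat.of Γ(S, V))) :=
      (Scheme.Modules.restrictFunctorIsoPullback _).app _ ≪≫ Vancyc.H878.RelOmega.omegaBC H
    have h2 := (K333.OmegaOne.projective Γ(S, V) (f ⁻¹ᵁ V).toScheme hc).2.1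
    exact Module.Projective.of_equiv (CurvesA.HHMap.equivOver Γ(S, V) e1 1).symm
  · rw [(Fga.EulerIso.HHequiv K (Vancyc.H878.RelOmega.omegaBC H) 0).finrank_eq]
    exact fibre_one K Y (hf.baseChange H)

end K99.OmegaPow
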