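import Groth.Agent.Curves.K333.OmegaMain

/-!
# The rank of `f_* L` for an invertible module on a family of curves

`main`: if `H^1(f⁻¹ V, L)` is projective over `Γ(S, V)` for all affine opens `V` and `h^0 = r` on all the base changes
to fields, then `f_* L` is finite locally free of rank `r`.
-/

set_option autoImplicit false
universe u
open CategoryTheory CategoryTheory.Limits AlgebraicGeometry Opposite TensorProduct

namespace K99.PushRank

open Groth.Agent K333.Fam K333.HOne K333.Families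

section Alg

variable {A : Type u} [CommRing A] {K₀ K₁ : Type u} [AddCommGroup K₀] [Module A K₀]
  [AddCommGroup K₁] [Module A K₁] (d : K₀ →ₗ[A] K₁)

theorem exists_retr_range [Module.Projective A (K₁ ⧸ LinearMap.range d)] :
    ∃ r : K₁ →ₗ[A] LinearMap.range d, r ∘ₗ (LinearMap.range d).subtype = LinearMap.id := by
  obtain ⟨s, hs⟩ := Module.projective_lifting_property (LinearMap.range d).mkQ LinearMap.id
    (Submodule.mkQ_surjective _)
  have hm : ∀ x, (LinearMap.id - s ∘ₗ (LinearMap.range d).mkQ : K₁ →ₗ[A] K₁) x ∈ LinearMap.range d := fun x => by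
    rw [← Submodule.Quotient.mk_eq_zero, ← Submodule.mkQ_apply]
    have h := LinearMap.congr_fun hs ((LinearMap.range d).mkQ x)
    simp only [LinearMap.comp_apply, LinearMap.id_apply] at h
    simp only [LinearMap.sub_apply, LinearMap.id_apply, LinearMap.comp_apply, map_sub, h, sub_self]
  refine ⟨(LinearMap.id - s ∘ₗ (LinearMap.range d).mkQ).codRestrict _ hm, ?_⟩
  refine LinearMap.ext fun x => Subtype.ext ?_
  have h : (LinearMap.range d).mkQ x.1 = 0 := by
    rw [Submodule.mkQ_apply, Submodule.Quotient.mk_eq_zero]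
    exact x.2
  change x.1 - s ((LinearMap.range d).mkQ x.1) = x.1
  rw [h, map_zero, sub_zero]

theorem exists_retr_ker [Module.Projective A (LinearMap.range d)] :
    ∃ r : K₀ →ₗ[A] LinearMap.ker d, r ∘ₗ (LinearMap.ker d).subtype = LinearMap.id := by
  obtain ⟨s, hs⟩ := Module.projective_lifting_property d.rangeRestrict LinearMap.id
    (LinearMap.surjective_rangeRestrict d)
  have hs' : ∀ y : LinearMap.range d, d (s y) = y.1 := fun y => by
    have h := LinearMap.congr_fun hs y
    exact congrArg Subtype.val h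
  have hm : ∀ x, (LinearMap.id - s ∘ₗ d.rangeRestrict : K₀ →ₗ[A] K₀) x ∈ LinearMap.ker d := fun x => by
    rw [LinearMap.mem_ker]
    simp only [LinearMap.sub_apply, LinearMap.id_apply, LinearMap.comp_apply, map_sub, hs']
    exact sub_self _
  refine ⟨(LinearMap.id - s ∘ₗ d.rangeRestrict).codRestrict _ hm, ?_⟩
  refine LinearMap.ext fun x => Subtype.ext ?_
  have h : d.rangeRestrict x.1 = 0 := Subtype.ext x.2
  change x.1 - s (d.rangeRestrict x.1) = x.1
  rw [h, map_zero, sub_zero]

/-- If the cokernel of `d` is projective then its kernel is finite projective and commutes with base change. -/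
theorem ker_facts [Module.Finite A K₀] [Module.Projective A K₀] [Module.Projective A K₁]
    [Module.Projective A (K₁ ⧸ LinearMap.range d)] :
    Module.Finite A (LinearMap.ker d) ∧ Module.Projective A (LinearMap.ker d) ∧
      ∀ (B : Type u) [CommRing B] [Algebra A B],
        Nonempty (LinearMap.ker (d.baseChange B) ≃ₗ[B] B ⊗[A] LinearMap.ker d) := by
  obtain ⟨r, hr⟩ := exists_retr_range d
  have h1 : Module.Projective A (LinearMap.range d) :=
    Module.Projective.of_split (LinearMap.range d).subtype r hr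
  obtain ⟨q, hq⟩ := exists_retr_ker d
  have h2 : Module.Projective A (LinearMap.ker d) :=
    Module.Projective.of_split (LinearMap.ker d).subtype q hq
  have h3 : Module.Finite A (LinearMap.ker d) := by
    refine Module.Finite.of_surjective q fun y => ⟨y.1, ?_⟩
    exact LinearMap.congr_fun hq y
  refine ⟨h3, h2, fun B _ _ => ?_⟩
  have h4 := K333.TwoTermAlg.ker_baseChange d _ r hr rfl B
  have h5 := K333.TwoTermAlg.injective_of_retraction B (LinearMap.ker d).subtype q hq
  rw [h4]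
  exact ⟨(LinearEquiv.ofInjective _ h5).symm⟩

end Alg

section Affine

variable {A : Type u} [CommRing A] {X : Scheme.{u}} [X.Over (Spec (CommRingCat.of A))] {g : ℕ}

theorem hh_zero (hf : IsCurve (X ↘ Spec (CommRingCat.of A)) g) (F : X.Modules) (hF : CohB1.IsFP F)
    (hfl : FlatMod.IsFlatOver (X ↘ Spec (CommRingCat.of A)) F)
    (hproj : Module.Projective A (Coh.HH X F 1)) :
    Module.Finite A (Coh.HH X F 0) ∧ Module.Projective A (Coh.HH X F 0) ∧
      ∀ (p : PrimeSpectrum A) (Y : Scheme.{u})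
        [Y.Over (Spec (CommRingCat.of p.asIdeal.ResidueField))]
        (j : Y ⟶ X) (_ : IsPullback j (Y ↘ Spec (CommRingCat.of p.asIdeal.ResidueField))
          (X ↘ Spec (CommRingCat.of A))
          (Spec.map (CommRingCat.ofHom (algebraMap A p.asIdeal.ResidueField)))),
        Module.rankAtStalk (Coh.HH X F 0) p =
          Module.finrank p.asIdeal.ResidueField (Coh.HH Y ((Scheme.Modules.pullback j).obj F) 0) := by
  obtain ⟨K₀, K₁, _, _, _, _, d, i1, i2, i3, i4, hd⟩ := K333.CurveCoh.exists_comp hf F hF hfl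
  obtain ⟨⟨e0⟩, ⟨e1⟩, -⟩ := hd.self
  have i5 : Module.Projective A (K₁ ⧸ LinearMap.range d) := Module.Projective.of_equiv e1
  obtain ⟨h1, h2, h3⟩ := ker_facts d
  have h4 : Module.Finite A (Coh.HH X F 0) := Module.Finite.equiv e0.symm
  have h5 : Module.Projective A (Coh.HH X F 0) := Module.Projective.of_equiv e0.symm
  refine ⟨h4, h5, fun p Y _ j H => ?_⟩
  obtain ⟨⟨e⟩, -⟩ := hd.alg p.asIdeal.ResidueField Y j H _ ⟨Iso.refl _⟩
  obtain ⟨e'⟩ := h3 p.asIdeal.ResidueField
  have h6 : Module.Flat A (Coh.HH X F 0) := @Module.Flat.of_projective _ _ _ _ _ h5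
  rw [Module.rankAtStalk_eq, e.finrank_eq, e'.finrank_eq]
  exact (LinearEquiv.baseChange A p.asIdeal.ResidueField _ _ e0).finrank_eq

end Affine

variable {X S : Scheme.{u}} {f : X ⟶ S} {g : ℕ}

/-- The direct image of a module with `H^1` projective. -/
theorem main (hf : IsCurve f g) [HasInjectiveResolutions X.Modules] (F : X.Modules) (hF : CohB1.IsFP F)
    (hfl : FlatMod.IsFlatOver f F) (r : ℕ)
    (hproj : ∀ (V : S.Opens) (hV : IsAffineOpen V),
      letI : (f ⁻¹ᵁ V).toScheme.Over (Spec (CommRingCat.of Γ(S, V))) := ⟨Ega3B.PackageAsm.strMap f hV⟩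
      Module.Projective Γ(S, V) (Coh.HH (f ⁻¹ᵁ V).toScheme (F.restrict (f ⁻¹ᵁ V).ι) 1))
    (hr : ∀ (K : Type u) [Field K] (t : Spec (CommRingCat.of K) ⟶ S) (Y : Scheme.{u})
      [Y.Over (Spec (CommRingCat.of K))] (j : Y ⟶ X), IsPullback j (Y ↘ Spec (CommRingCat.of K)) f t →
      Module.finrank K (Coh.HH Y ((Scheme.Modules.pullback j).obj F) 0) = r) :
    FlatMod.IsFinLocFreeOfRank r ((Coh.push f).obj F) := by
  have i1 := hf.proper
  have i2 := hf.smooth
  have hq0 : Coh.IsQCoh F := Models2.FPCoh.isQCoh_of_isFP hF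
  have hQ : Coh.IsQCoh ((Coh.Rpush f 0).obj F) := CohqA.RelCoh.isQCoh_Rpush f F hq0 0
  have key : FlatMod.IsFinLocFreeOfRank r ((Coh.Rpush f 0).obj F) := by
    intro x
    obtain ⟨V, hV, hxV, -⟩ := exists_isAffineOpen_mem_and_subset (x := x) (U := ⊤) trivial
    let iO : (f ⁻¹ᵁ V).toScheme.Over (Spec (CommRingCat.of Γ(S, V))) := ⟨Ega3B.PackageAsm.strMap f hV⟩
    have H : IsPullback (f ⁻¹ᵁ V).ι ((f ⁻¹ᵁ V).toScheme ↘ Spec (CommRingCat.of Γ(S, V))) f hV.fromSpec :=
      isPullback_strMap f hV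
    have hc : IsCurve ((f ⁻¹ᵁ V).toScheme ↘ Spec (CommRingCat.of Γ(S, V))) g := hf.baseChange H
    obtain ⟨e0⟩ := Ega3B.RpushAff.exists_linearEquiv f F hq0 hV 0
    have hFV : CohB1.IsFP (F.restrict (f ⁻¹ᵁ V).ι) := PerfC.FPSections.isFP_restrict _ hF
    have hflV : FlatMod.IsFlatOver ((f ⁻¹ᵁ V).toScheme ↘ Spec (CommRingCat.of Γ(S, V)))
        (F.restrict (f ⁻¹ᵁ V).ι) := by
      refine Ega3B.FlatRestrict.isFlatOver_restrict f _ (f ⁻¹ᵁ V).ι hV.fromSpec ?_ F hfl
      exact (isPullback_strMap f hV).w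
    obtain ⟨h1, h2, h3⟩ := hh_zero hc _ hFV hflV (hproj V hV)
    have i3 := Module.Finite.equiv e0.symm
    have i4 := Module.Projective.of_equiv e0.symm
    have : Module.FinitePresentation Γ(S, V) Γ((Coh.Rpush f 0).obj F, V) :=
      Module.finitePresentation_of_projective _ _
    obtain ⟨U, hxU, -, e'⟩ := Ega3B.LocFree.exists_restrict_iso_freeMod
      ((Coh.Rpush f 0).obj F) hV ⟨x, hxV⟩
    refine ⟨U, hxU, ?_⟩
    let p := hV.primeIdealOf ⟨x, hxV⟩
    let Y : Scheme.{u} := pullback ((f ⁻¹ᵁ V).toScheme ↘ Spec (CommRingCat.of Γ(S, V)))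
      (Spec.map (CommRingCat.ofHom (algebraMap Γ(S, V) p.asIdeal.ResidueField)))
    let iY : Y.Over (Spec (CommRingCat.of p.asIdeal.ResidueField)) := ⟨pullback.snd _ _⟩
    have HY : IsPullback (pullback.fst _ _) (Y ↘ Spec (CommRingCat.of p.asIdeal.ResidueField))
        ((f ⁻¹ᵁ V).toScheme ↘ Spec (CommRingCat.of Γ(S, V)))
        (Spec.map (CommRingCat.ofHom (algebraMap Γ(S, V) p.asIdeal.ResidueField))) :=
      IsPullback.of_hasPullback _ _
    have h4 := hr p.asIdeal.ResidueField _ Y _ (HY.paste_horiz H)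
    let e : (Scheme.Modules.pullback (pullback.fst _ _)).obj (F.restrict (f ⁻¹ᵁ V).ι) ≅
        (Scheme.Modules.pullback (pullback.fst ((f ⁻¹ᵁ V).toScheme ↘ Spec (CommRingCat.of Γ(S, V)))
          (Spec.map (CommRingCat.ofHom (algebraMap Γ(S, V) p.asIdeal.ResidueField))) ≫
            (f ⁻¹ᵁ V).ι)).obj F :=
      (Scheme.Modules.pullback _).mapIso ((Scheme.Modules.restrictFunctorIsoPullback _).app F) ≪≫
        (Scheme.Modules.pullbackComp _ (f ⁻¹ᵁ V).ι).app F
    have h5 := (Fga.EulerIso.HHequiv p.asIdeal.ResidueField e 0).finrank_eq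
    rw [Module.rankAtStalk_eq_of_equiv e0, h3 p Y _ HY, h5, h4] at e'
    exact e'
  let e : (Coh.Rpush f 0).obj F ≅ (Coh.push f).obj F :=
    (Scheme.Modules.pushforward f).rightDerivedZeroIsoSelf.app F
  intro x
  obtain ⟨U, hxU, ⟨e'⟩⟩ := key x
  exact ⟨U, hxU, ⟨(Scheme.Modules.restrictFunctor U.ι).mapIso e.symm ≪≫ e'⟩⟩

end K99.PushRank
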